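import Mathlib
import Groth.Agent.PurLib.LocalIso

/-!
A proper birational morphism, quasi-finite at a point over a normal point, is an isomorphism nearby.
-/

set_option autoImplicit false
set_option linter.style.haveILetI false
set_option linter.style.longLine false
set_option backward.isDefEq.respectTransparency.types false

universe u

open CategoryTheory AlgebraicGeometry TopologicalSpace

namespace Groth.Agent.BirFinite

theorem isIso_of_isIso_appTop {X Y : Scheme.{u}} [IsAffine X] [IsAffine Y] (f : X ⟶ Y)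
    [IsIso f.appTop] : IsIso f := by
  have h : f = X.isoSpec.hom ≫ Spec.map f.appTop ≫ Y.isoSpec.inv := by
    rw [← Category.assoc, Iso.eq_comp_inv]
    exact (Scheme.isoSpec_hom_naturality f).symm
  rw [h]; infer_instance

variable {X Y : Scheme.{u}}

/-- Elements integral over a ring of sections near a normal point have denominators not vanishing
at the point. -/
theorem exists_denominator [IsIntegral X] [IsIntegral Y] (f : Y ⟶ X)
    (hgen : f (genericPoint Y) = genericPoint X)
    (hbir : Function.Bijective (f.stalkMap (genericPoint Y)))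
    {V : X.Opens} (hV : IsAffineOpen V) {x : X} (hxV : x ∈ V)
    (hx : IsIntegrallyClosed (X.presheaf.stalk x)) (c : Γ(Y, f ⁻¹ᵁ V))
    (hc : (f.app V).hom.IsIntegralElem c) :
    ∃ s a : Γ(X, V), x ∈ X.basicOpen s ∧ f.app V s * c = f.app V a := by
  haveI : Nonempty V := ⟨⟨x, hxV⟩⟩
  let x₀ := genericPoint Y
  have hgV : genericPoint X ∈ V := (genericPoint_specializes x).mem_open V.2 hxV
  have hx₀ : x₀ ∈ f ⁻¹ᵁ V := by
    show f x₀ ∈ V
    rw [show f x₀ = genericPoint X from hgen]; exact hgV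
  letI algAB : Algebra Γ(X, V) Γ(Y, f ⁻¹ᵁ V) := (f.app V).hom.toAlgebra
  let ψ : Γ(Y, f ⁻¹ᵁ V) →+* Y.functionField := (Y.presheaf.germ (f ⁻¹ᵁ V) x₀ hx₀).hom
  have hψ : Function.Injective ψ := germ_injective_of_isIntegral Y x₀ hx₀
  letI : Algebra Γ(Y, f ⁻¹ᵁ V) Y.functionField := ψ.toAlgebra
  letI : Algebra Γ(X, V) Y.functionField := (ψ.comp (f.app V).hom).toAlgebra
  haveI : IsScalarTower Γ(X, V) Γ(Y, f ⁻¹ᵁ V) Y.functionField := IsScalarTower.of_algebraMap_eq fun _ => rfl
  haveI : IsFractionRing Γ(X, V) Y.functionField := by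
    have key : ∀ (p : X) (hp : p = genericPoint X) (hpV : p ∈ V),
        @IsFractionRing Γ(X, V) _ (X.presheaf.stalk p) _ (X.presheaf.germ V p hpV).hom.toAlgebra := by
      rintro _ rfl hpV
      exact functionField_isFractionRing_of_isAffineOpen X V hV
    letI := (X.presheaf.germ V (f x₀) hx₀).hom.toAlgebra
    haveI := key _ hgen hx₀
    let e : X.presheaf.stalk (f x₀) ≃ₐ[Γ(X, V)] Y.functionField :=
      AlgEquiv.ofBijective { (f.stalkMap x₀).hom with
        commutes' := fun r => by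
          show f.stalkMap x₀ (X.presheaf.germ V (f x₀) hx₀ r) = _
          rw [Scheme.Hom.germ_stalkMap_apply]
          rfl } hbir
    exact IsLocalization.isLocalization_of_algEquiv (nonZeroDivisors Γ(X, V)) e
  letI := X.presheaf.algebra_section_stalk ⟨x, hxV⟩
  set p := (hV.primeIdealOf ⟨x, hxV⟩).asIdeal with hp
  haveI : IsLocalization.AtPrime (X.presheaf.stalk x) p := hV.isLocalization_stalk ⟨x, hxV⟩
  haveI : IsDomain Γ(X, V) := IsIntegral.component_integral V
  letI : Algebra (X.presheaf.stalk x) Y.functionField := (IsLocalization.lift (M := p.primeCompl)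
    (g := algebraMap Γ(X, V) Y.functionField) fun y => isUnit_iff_ne_zero.mpr fun h => y.2 (by
      rw [show (y : Γ(X, V)) = 0 from IsFractionRing.injective Γ(X, V) Y.functionField
        (h.trans (map_zero _).symm)]
      exact p.zero_mem)).toAlgebra
  haveI : IsScalarTower Γ(X, V) (X.presheaf.stalk x) Y.functionField :=
    IsScalarTower.of_algebraMap_eq fun b => (IsLocalization.lift_eq _ b).symm
  haveI : IsFractionRing (X.presheaf.stalk x) Y.functionField :=
    IsFractionRing.isFractionRing_of_isDomain_of_isLocalization p.primeCompl _ _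
  have hint : IsIntegral Γ(X, V) (ψ c) :=
    (show IsIntegral Γ(X, V) c from hc).map (IsScalarTower.toAlgHom Γ(X, V) Γ(Y, f ⁻¹ᵁ V) Y.functionField)
  obtain ⟨t, ht⟩ := (isIntegrallyClosed_iff (R := X.presheaf.stalk x) Y.functionField).mp hx
    (hint.tower_top (A := X.presheaf.stalk x))
  obtain ⟨a, ⟨s, hs⟩, rfl⟩ := IsLocalization.exists_mk'_eq p.primeCompl t
  refine ⟨s, a, ?_, hψ ?_⟩
  · rw [X.mem_basicOpen s x hxV]
    exact IsLocalization.map_units (X.presheaf.stalk x) (⟨s, hs⟩ : p.primeCompl)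
  · rw [map_mul, ← ht]
    show algebraMap Γ(X, V) Y.functionField s * _ = algebraMap Γ(X, V) Y.functionField a
    rw [IsScalarTower.algebraMap_apply Γ(X, V) (X.presheaf.stalk x) Y.functionField s,
      IsScalarTower.algebraMap_apply Γ(X, V) (X.presheaf.stalk x) Y.functionField a, ← map_mul]
    exact congrArg _ (IsLocalization.mk'_spec' (X.presheaf.stalk x) a ⟨s, hs⟩)

/-- If every section has a denominator not vanishing at `x`, the morphism is an isomorphism over a
neighbourhood of `x`. -/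
theorem exists_isIso_of_denominators (f : Y ⟶ X) [LocallyOfFiniteType f] {V : X.Opens}
    (hV : IsAffineOpen V) (hVY : IsAffineOpen (f ⁻¹ᵁ V)) (hinj : Function.Injective (f.app V))
    {x : X} (hxV : x ∈ V)
    (hden : ∀ c : Γ(Y, f ⁻¹ᵁ V), ∃ s a : Γ(X, V), x ∈ X.basicOpen s ∧ f.app V s * c = f.app V a) :
    ∃ U : X.Opens, x ∈ U ∧ IsIso (f ∣_ U) := by
  classical
  letI algAB : Algebra Γ(X, V) Γ(Y, f ⁻¹ᵁ V) := (f.app V).hom.toAlgebra
  haveI : Algebra.FiniteType Γ(X, V) Γ(Y, f ⁻¹ᵁ V) := by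
    have := f.finiteType_appLE hV hVY le_rfl
    rwa [← Scheme.Hom.app_eq_appLE] at this
  obtain ⟨G, hG⟩ := Algebra.FiniteType.out (R := Γ(X, V)) (A := Γ(Y, f ⁻¹ᵁ V))
  choose s a hs ha using hden
  set t := ∏ c ∈ G, s c with ht
  have htx : x ∈ X.basicOpen t := by
    rw [X.mem_basicOpen t x hxV, ht, map_prod]
    exact IsUnit.prod_iff.2 fun c _ => (X.mem_basicOpen (s c) x hxV).1 (hs c)
  have hall : ∀ b : Γ(Y, f ⁻¹ᵁ V), ∃ (n : ℕ) (r : Γ(X, V)), f.app V t ^ n * b = f.app V r := by
    intro b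
    have hb : b ∈ Algebra.adjoin Γ(X, V) (G : Set Γ(Y, f ⁻¹ᵁ V)) := hG.symm ▸ trivial
    induction hb using Algebra.adjoin_induction with
    | mem c hc =>
      refine ⟨1, (∏ d ∈ G.erase c, s d) * a c, ?_⟩
      rw [pow_one, ht, ← Finset.prod_erase_mul G s hc, map_mul, mul_assoc, ha c, map_mul]
    | algebraMap r => exact ⟨0, r, by simp; rfl⟩
    | add b b' _ _ h h' =>
      obtain ⟨n, r, hr⟩ := h; obtain ⟨m, r', hr'⟩ := h'
      refine ⟨n + m, t ^ m * r + t ^ n * r', ?_⟩
      rw [map_add, map_mul, map_mul, map_pow, map_pow, ← hr, ← hr']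
      ring
    | mul b b' _ _ h h' =>
      obtain ⟨n, r, hr⟩ := h; obtain ⟨m, r', hr'⟩ := h'
      refine ⟨n + m, r * r', ?_⟩
      rw [map_mul, ← hr, ← hr']
      ring
  refine ⟨X.basicOpen t, htx, ?_⟩
  haveI : IsAffine (X.basicOpen t).toScheme := hV.basicOpen t
  haveI : IsAffine (f ⁻¹ᵁ X.basicOpen t).toScheme := by
    rw [Scheme.preimage_basicOpen]
    exact hVY.basicOpen _
  haveI := hV.isLocalization_basicOpen t
  haveI := hVY.isLocalization_basicOpen (f.app V t)
  have hbij : Function.Bijective (IsLocalization.Away.map Γ(X, X.basicOpen t)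
      Γ(Y, Y.basicOpen (f.app V t)) (f.app V).hom t) := by
    constructor
    · exact IsLocalization.map_injective_of_injective (.powers t) _ _ hinj
    · intro z
      obtain ⟨b, ⟨_, j, rfl⟩, rfl⟩ := IsLocalization.exists_mk'_eq (Submonoid.powers (f.app V t)) z
      obtain ⟨n, r, hr⟩ := hall b
      refine ⟨IsLocalization.mk' _ r (⟨t ^ (j + n), j + n, rfl⟩ : Submonoid.powers t), ?_⟩
      rw [IsLocalization.Away.map, IsLocalization.map_mk']
      refine (IsLocalization.mk'_eq_iff_eq).2 (congrArg _ ?_)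
      show f.app V t ^ j * f.app V r = f.app V (t ^ (j + n)) * b
      rw [← hr, map_pow, pow_add]
      ring
  haveI : IsIso (f.app (X.basicOpen t)) := by
    rw [IsAffineOpen.app_basicOpen_eq_away_map f hV hVY t]
    haveI : IsIso (CommRingCat.ofHom (IsLocalization.Away.map Γ(X, X.basicOpen t)
        Γ(Y, Y.basicOpen (f.app V t)) (f.app V).hom t)) :=
      (ConcreteCategory.isIso_iff_bijective _).2 hbij
    infer_instance
  haveI : IsIso (f ∣_ X.basicOpen t).appTop := by
    rw [morphismRestrict_appTop]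
    have h0 : (X.basicOpen t).ι ''ᵁ ⊤ = X.basicOpen t := (X.basicOpen t).ι_image_top
    haveI : IsIso (f.app ((X.basicOpen t).ι ''ᵁ ⊤)) := by rw [h0]; infer_instance
    exact IsIso.comp_isIso' ‹_› (Functor.map_isIso _ _)
  exact isIso_of_isIso_appTop _

/-- Zariski's main theorem: iso near a normal point. -/
theorem exists_isIso_nhd [IsIntegral X] [IsIntegral Y] (f : Y ⟶ X) [IsProper f]
    (W : X.Opens) (hW : (W : Set X).Nonempty) (hfW : IsIso (f ∣_ W))
    (x : X) (hx : IsIntegrallyClosed (X.presheaf.stalk x)) (y : Y) (hy : f y = x)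
    (hq : f.QuasiFiniteAt y) : ∃ V : X.Opens, x ∈ V ∧ IsIso (f ∣_ V) := by
  haveI := hfW
  have hWY : ((f ⁻¹ᵁ W : Y.Opens) : Set Y).Nonempty := by
    obtain ⟨w, hw⟩ := hW
    obtain ⟨z, hz⟩ := (Scheme.homeoOfIso (asIso (f ∣_ W))).surjective ⟨w, hw⟩
    exact ⟨z.1, z.2⟩
  obtain ⟨hgen, hbir⟩ := PurLib.generic_facts f ⟨f ⁻¹ᵁ W, hWY, by
    rw [← morphismRestrict_ι]; infer_instance⟩
  let g := f.fromNormalization
  let h := f.toNormalization
  have hfgh : h ≫ g = f := f.toNormalization_fromNormalization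
  have hfg : ∀ z, g (h z) = f z := fun z => by rw [← Scheme.Hom.comp_apply, hfgh]
  obtain ⟨V0, hyV0, hV0⟩ := f.exists_mem_and_isIso_morphismRestrict_toNormalization y hq
  haveI := hV0
  -- all points of the normalization over `x` coincide
  obtain ⟨Va, hVa, hxVa, -⟩ := exists_isAffineOpen_mem_and_subset (x := x) (U := (⊤ : X.Opens)) trivial
  have huniq : ∀ z : f.normalization, g z = x → z = h y := by
    intro z hz
    have hgy : g (h y) = x := (hfg y).trans hy
    have hN : IsAffineOpen (g ⁻¹ᵁ Va) := hVa.preimage g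
    have hz' : z ∈ g ⁻¹ᵁ Va := by show g z ∈ Va; rw [hz]; exact hxVa
    have hy' : h y ∈ g ⁻¹ᵁ Va := by show g (h y) ∈ Va; rw [hgy]; exact hxVa
    letI := (f.app Va).hom.toAlgebra
    have hsame : ∀ c : Γ(f.normalization, g ⁻¹ᵁ Va), z ∈ f.normalization.basicOpen c ↔
        h y ∈ f.normalization.basicOpen c := by
      intro c
      let c' := (f.normalizationObjIso hVa).hom c
      obtain ⟨s, a, hs, hsa⟩ := exists_denominator f hgen hbir hVa hxVa hx c'.1 c'.2
      have heq : g.app Va s * c = g.app Va a := by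
        apply (f.normalizationObjIso hVa).commRingCatIsoToRingEquiv.injective
        have happ : ∀ r, (f.normalizationObjIso hVa).hom (g.app Va r) =
            algebraMap Γ(X, Va) (integralClosure Γ(X, Va) Γ(Y, f ⁻¹ᵁ Va)) r := fun r => by
          show (f.normalizationObjIso hVa).hom (f.fromNormalization.app Va r) = _
          rw [f.fromNormalization_app hVa]
          simp
        show (f.normalizationObjIso hVa).hom (g.app Va s * c) = (f.normalizationObjIso hVa).hom (g.app Va a)
        rw [map_mul, happ, happ]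
        exact Subtype.ext hsa
      have hb : ∀ w, g w = x → (w ∈ f.normalization.basicOpen c ↔ x ∈ X.basicOpen a) := by
        intro w hw
        have hws : w ∈ f.normalization.basicOpen (g.app Va s) := by
          rw [← Scheme.preimage_basicOpen]; show g w ∈ X.basicOpen s; rw [hw]; exact hs
        have : w ∈ f.normalization.basicOpen (g.app Va a) ↔ w ∈ f.normalization.basicOpen c := by
          rw [← heq, Scheme.basicOpen_mul]
          exact ⟨fun h => h.2, fun h => ⟨hws, h⟩⟩
        rw [← this, ← Scheme.preimage_basicOpen, ← hw]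
        rfl
      rw [hb z hz, hb (h y) hgy]
    refine (Inseparable.eq (inseparable_iff_forall_isOpen.2 fun O hO => ?_))
    constructor
    · intro hzO
      obtain ⟨c, hcO, hzc⟩ := hN.exists_basicOpen_le ⟨z, hzO⟩ hz' (V := ⟨O, hO⟩)
      exact hcO ((hsame c).1 hzc)
    · intro hyO
      obtain ⟨c, hcO, hyc⟩ := hN.exists_basicOpen_le ⟨h y, hyO⟩ hy' (V := ⟨O, hO⟩)
      exact hcO ((hsame c).2 hyc)
  -- an affine neighbourhood whose preimage lies in `V0`
  have hclosed : IsClosed (g '' (V0 : Set f.normalization)ᶜ) := g.isClosedMap _ V0.isOpen.isClosed_compl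
  obtain ⟨V, hV, hxV, hVsub⟩ := exists_isAffineOpen_mem_and_subset (x := x)
    (U := (⟨_, hclosed.isOpen_compl⟩ : X.Opens)) (by
      rintro ⟨z, hz, hzx⟩
      rw [huniq z hzx] at hz
      exact hz hyV0)
  have hsub : g ⁻¹ᵁ V ≤ V0 := fun z hz => by
    by_contra hzV
    exact hVsub hz ⟨z, hzV, rfl⟩
  have e : V0.ι ''ᵁ V0.ι ⁻¹ᵁ g ⁻¹ᵁ V = g ⁻¹ᵁ V := by
    rw [Scheme.Hom.image_preimage_eq_opensRange_inf, Scheme.Opens.opensRange_ι]
    exact inf_eq_right.2 hsub
  haveI : IsIso (h ∣_ g ⁻¹ᵁ V) := by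
    have h1 : IsIso (h ∣_ V0 ∣_ V0.ι ⁻¹ᵁ g ⁻¹ᵁ V) := inferInstance
    exact ((MorphismProperty.isomorphisms Scheme).arrow_mk_iso_iff
      (morphismRestrictRestrict h V0 (V0.ι ⁻¹ᵁ g ⁻¹ᵁ V) ≪≫ morphismRestrictEq h e)).1 h1
  have eV : h ⁻¹ᵁ g ⁻¹ᵁ V = f ⁻¹ᵁ V := by
    rw [← Scheme.Hom.comp_preimage]
    exact congrArg (fun φ : Y ⟶ X => φ ⁻¹ᵁ V) hfgh
  have hVY : IsAffineOpen (f ⁻¹ᵁ V) := by
    haveI : IsAffine (g ⁻¹ᵁ V).toScheme := hV.preimage g
    have hh : IsAffineOpen (h ⁻¹ᵁ g ⁻¹ᵁ V) := IsAffine.of_isIso (h ∣_ g ⁻¹ᵁ V)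
    exact eV ▸ hh
  haveI : Surjective f := by
    refine ⟨fun z => ?_⟩
    have hsub1 : closure ({genericPoint X} : Set X) ⊆ closure (Set.range f) :=
      closure_mono (Set.singleton_subset_iff.2 ⟨_, hgen⟩)
    rw [(genericPoint_spec X).def, f.isClosedMap.isClosed_range.closure_eq] at hsub1
    exact hsub1 trivial
  refine exists_isIso_of_denominators f hV hVY (NormGen.Basic.app_injective f V) hxV fun c => ?_
  refine exists_denominator f hgen hbir hV hxV hx c ?_
  haveI : IsIntegralHom (f ∣_ V) := by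
    have h1 : IsIntegralHom ((h ≫ g) ∣_ V) := by
      rw [morphismRestrict_comp]
      haveI : IsIntegralHom (g ∣_ V) := IsZariskiLocalAtTarget.restrict (inferInstanceAs (IsIntegralHom f.fromNormalization)) V
      exact MorphismProperty.comp_mem _ _ _ inferInstance inferInstance
    convert h1 using 2 <;> rw [hfgh]
  haveI : IsAffine V.toScheme := hV
  have hI := (f ∣_ V).isIntegral_app ⊤ (isAffineOpen_top V.toScheme)
  change (f ∣_ V).appTop.hom.IsIntegral at hI
  rw [morphismRestrict_appTop] at hI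
  have hI2 : (f.app (V.ι ''ᵁ ⊤)).hom.IsIntegral := by
    haveI : IsIso (Y.presheaf.map (eqToHom (image_morphismRestrict_preimage f V ⊤)).op) := Functor.map_isIso _ _
    intro b
    obtain ⟨p, hp, hpe⟩ := hI (Y.presheaf.map (eqToHom (image_morphismRestrict_preimage f V ⊤)).op b)
    refine ⟨p, hp, ?_⟩
    apply (ConcreteCategory.bijective_of_isIso
      (Y.presheaf.map (eqToHom (image_morphismRestrict_preimage f V ⊤)).op)).1
    rw [map_zero, Polynomial.hom_eval₂]
    exact hpe
  rw [V.ι_image_top] at hI2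
  exact hI2 c

end Groth.Agent.BirFinite
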